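import Cfsg.Agent.Mrg.Omega.FrameI
import Cfsg.Agent.S0599
import Cfsg.Agent.Mrg.Omega.Assembly
import Mathlib
import Cfsg.Agent.Omega.NO3S.EThree.MinOff

section


/-!
# Best offenders: submodules, stabilisers, conjugates (for THEOREM BA')

* `bo_sub` : a best offender on `W` satisfies the offender inequality on every subgroup of `W`;
* `bo_stab` : if the orbit of `u` has length 2 then `C_A(u)` is a best offender;
* `bo_of_cj` : conjugates;
* `bo_quad` : Timmesfeld replacement: `C_A([U, A])`, for an `A`-invariant `U` not centralised by `A`, does not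
  centralise `U`.
-/

set_option autoImplicit false
set_option linter.unusedSectionVars false

namespace Cfsg.Agent.Omega.NO3S.SN2.BA

open Subgroup Cfsg Cfsg.Agent.ZN.ChoiceBase
open Cfsg.Agent.PLocal.Timmesfeld
open scoped commutatorElement

universe u

variable {G : Type u} [Group G]

theorem mem_sup_of_comm {X Y : Subgroup G} (h : ∀ x ∈ X, ∀ y ∈ Y, x * y = y * x) {u : G} (hu : u ∈ X ⊔ Y) :
    ∃ x ∈ X, ∃ y ∈ Y, x * y = u := by
  let Z : Subgroup G :=
    { carrier := {u | ∃ x ∈ X, ∃ y ∈ Y, x * y = u}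
      mul_mem' := by
        rintro _ _ ⟨x, hx, y, hy, rfl⟩ ⟨x', hx', y', hy', rfl⟩
        refine ⟨x * x', mul_mem hx hx', y * y', mul_mem hy hy', ?_⟩
        calc x * x' * (y * y') = x * (x' * y) * y' := by group
          _ = x * (y * x') * y' := by rw [h x' hx' y hy]
          _ = _ := by group
      one_mem' := ⟨1, one_mem _, 1, one_mem _, mul_one 1⟩
      inv_mem' := by
        rintro _ ⟨x, hx, y, hy, rfl⟩
        exact ⟨x⁻¹, inv_mem hx, y⁻¹, inv_mem hy, by rw [mul_inv_rev, h _ (inv_mem hx) _ (inv_mem hy)]⟩ }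
  have h1 : X ⊔ Y ≤ Z := sup_le (fun x hx => ⟨x, hx, 1, one_mem _, mul_one x⟩)
    fun y hy => ⟨1, one_mem _, y, hy, one_mul y⟩
  exact h1 hu

variable [Finite G] {W A : Subgroup G}

theorem bo_sub (hb : IsBestOffenderOn 2 W A) {U : Subgroup G} (hU : U ≤ W) :
    Nat.card U * Nat.card ↥(A ⊓ centralizer (U : Set G)) ≤ Nat.card A * Nat.card ↥(U ⊓ centralizer (A : Set G)) := by
  have h1 := hb.1 (A ⊓ centralizer (U : Set G)) inf_le_left
  have h2 : U ≤ W ⊓ centralizer ((A ⊓ centralizer (U : Set G) : Subgroup G) : Set G) :=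
    le_inf hU (le_centralizer_iff.1 inf_le_right)
  have h3 : W ⊓ centralizer (A : Set G) ≤ W ⊓ centralizer ((A ⊓ centralizer (U : Set G) : Subgroup G) : Set G) :=
    inf_le_inf_left _ (centralizer_le (SetLike.coe_subset_coe.2 inf_le_left))
  have h4 := card_mul_card_le h2 h3
  have h5 : U ⊓ (W ⊓ centralizer (A : Set G)) = U ⊓ centralizer (A : Set G) := by
    rw [← inf_assoc, inf_eq_left.2 hU]
  rw [h5] at h4
  have h6 : 0 < Nat.card ↥(W ⊓ centralizer (A : Set G)) := Nat.card_pos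
  refine Nat.le_of_mul_le_mul_right ?_ h6
  calc Nat.card U * Nat.card ↥(A ⊓ centralizer (U : Set G)) * Nat.card ↥(W ⊓ centralizer (A : Set G))
      = Nat.card ↥(A ⊓ centralizer (U : Set G)) * (Nat.card U * Nat.card ↥(W ⊓ centralizer (A : Set G))) := by ring
    _ ≤ Nat.card ↥(A ⊓ centralizer (U : Set G)) * (Nat.card ↥(U ⊓ centralizer (A : Set G)) *
        Nat.card ↥(W ⊓ centralizer ((A ⊓ centralizer (U : Set G) : Subgroup G) : Set G))) :=
        Nat.mul_le_mul_left _ h4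
    _ = Nat.card ↥(U ⊓ centralizer (A : Set G)) * (Nat.card ↥(A ⊓ centralizer (U : Set G)) *
        Nat.card ↥(W ⊓ centralizer ((A ⊓ centralizer (U : Set G) : Subgroup G) : Set G))) := by ring
    _ ≤ Nat.card ↥(U ⊓ centralizer (A : Set G)) * (Nat.card A * Nat.card ↥(W ⊓ centralizer (A : Set G))) :=
        Nat.mul_le_mul_left _ h1
    _ = _ := by ring

/-- a subgroup of a best offender with the same measure -/
theorem bo_of_le (hb : IsBestOffenderOn 2 W A) {B : Subgroup G} (hBA : B ≤ A)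
    (h : Nat.card A * Nat.card ↥(W ⊓ centralizer (A : Set G)) ≤ Nat.card B * Nat.card ↥(W ⊓ centralizer (B : Set G))) :
    IsBestOffenderOn 2 W B :=
  ⟨fun C hC => (hb.1 C (hC.trans hBA)).trans h, (commutator_mono hBA hBA).trans hb.2.1,
    fun a ha => hb.2.2 a (hBA ha)⟩

theorem bo_stab (hb : IsBestOffenderOn 2 W A) {u a₀ : G} (hu : u ∈ W) (ha₀ : a₀ ∈ A) (hne : a₀ * u ≠ u * a₀)
    (h2 : ∀ a ∈ A, a * u = u * a ∨ a * u * a⁻¹ = a₀ * u * a₀⁻¹) :
    IsBestOffenderOn 2 W (A ⊓ centralizer {u}) ∧ Nat.card A ≤ 2 * Nat.card ↥(A ⊓ centralizer ({u} : Set G)) := by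
  set B := A ⊓ centralizer ({u} : Set G) with hB
  have hmem : ∀ a, a ∈ B ↔ a ∈ A ∧ a * u = u * a := fun a => by
    rw [hB, mem_inf, mem_centralizer_singleton_iff]
  have h3 : Nat.card A ≤ 2 * Nat.card B := by
    have h4 : (A : Set G) ⊆ (B : Set G) ∪ (fun b => a₀ * b) '' (B : Set G) := by
      intro a ha
      rcases h2 a ha with h5 | h5
      · exact Or.inl ((hmem a).2 ⟨ha, h5⟩)
      · right
        refine ⟨a₀⁻¹ * a, (hmem _).2 ⟨mul_mem (inv_mem ha₀) ha, ?_⟩, by group⟩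
        calc a₀⁻¹ * a * u = a₀⁻¹ * (a * u * a⁻¹) * a := by group
          _ = a₀⁻¹ * (a₀ * u * a₀⁻¹) * a := by rw [h5]
          _ = u * (a₀⁻¹ * a) := by group
    have h5 := Set.ncard_le_ncard h4 (Set.toFinite _)
    have h6 := Set.ncard_union_le (B : Set G) ((fun b => a₀ * b) '' (B : Set G))
    have h7 : ((fun b => a₀ * b) '' (B : Set G)).ncard ≤ (B : Set G).ncard := Set.ncard_image_le (Set.toFinite _)
    have e1 : Nat.card A = (A : Set G).ncard := rfl
    have e2 : Nat.card B = (B : Set G).ncard := rfl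
    rw [e1, e2]
    omega
  refine ⟨bo_of_le hb inf_le_left ?_, h3⟩
  -- `|C_W(B)| ≥ 2 |C_W(A)|`
  have h4 : W ⊓ centralizer (A : Set G) ≤ W ⊓ centralizer (B : Set G) :=
    inf_le_inf_left _ (centralizer_le (SetLike.coe_subset_coe.2 inf_le_left))
  have h5 : u ∈ W ⊓ centralizer (B : Set G) := ⟨hu, mem_centralizer_iff.2 fun b hb' => ((hmem b).1 hb').2⟩
  have h6 : u ∉ W ⊓ centralizer (A : Set G) := fun h => hne (mem_centralizer_iff.1 h.2 a₀ ha₀)
  obtain ⟨k, hk⟩ := card_dvd_of_le h4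
  have h7 : 2 ≤ k := by
    by_contra hc
    have h8 : k = 0 ∨ k = 1 := by omega
    rcases h8 with rfl | rfl
    · rw [mul_zero] at hk
      exact Nat.card_pos.ne' hk
    · rw [mul_one] at hk
      exact h6 ((eq_of_le_of_card_ge h4 hk.le) ▸ h5)
  rw [hk]
  calc Nat.card A * Nat.card ↥(W ⊓ centralizer (A : Set G))
      ≤ 2 * Nat.card B * Nat.card ↥(W ⊓ centralizer (A : Set G)) := Nat.mul_le_mul_right _ h3
    _ = Nat.card B * (Nat.card ↥(W ⊓ centralizer (A : Set G)) * 2) := by ring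
    _ ≤ _ := Nat.mul_le_mul_left _ (Nat.mul_le_mul_left _ h7)

theorem bo_cj (hb : IsBestOffenderOn 2 W A) {g : G} (hg : g ∈ normalizer (W : Set G)) :
    IsBestOffenderOn 2 W (cj g A) := by
  have hW : cj g W = W := by
    ext x
    rw [mem_cj]
    have := mem_normalizer_iff.1 (inv_mem hg) x
    rw [inv_inv] at this
    exact this.symm
  have hc : ∀ B : Subgroup G, Nat.card ↥(W ⊓ centralizer ((cj g B : Subgroup G) : Set G)) =
      Nat.card ↥(W ⊓ centralizer (B : Set G)) := by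
    intro B
    rw [← cj_centralizer]
    nth_rw 1 [← hW]
    rw [← cj_inf, card_cj]
  have hcW : cj g (centralizer (W : Set G)) = centralizer (W : Set G) := by rw [cj_centralizer, hW]
  refine ⟨fun B hB => ?_, ?_, fun a ha => ?_⟩
  · have h1 := hb.1 (cj g⁻¹ B) (by rw [cj_le_iff, inv_inv]; exact hB)
    rw [card_cj] at h1
    have h2 := hc (cj g⁻¹ B)
    have e : cj g (cj g⁻¹ B) = B := by
      have := cj_inv_cj g⁻¹ B
      rwa [inv_inv] at this
    rw [e] at h2
    rw [h2, hc, card_cj]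
    exact h1
  · rw [commutator_le]
    intro a ha b hb'
    rw [mem_cj] at ha hb'
    rw [← hcW, mem_cj]
    have h1 := hb.2.1 (commutator_mem_commutator ha hb')
    have e : ⁅g⁻¹ * a * g, g⁻¹ * b * g⁆ = g⁻¹ * ⁅a, b⁆ * g := by
      simp only [commutatorElement_def]; group
    rwa [e] at h1
  · rw [mem_cj] at ha
    rw [← hcW, mem_cj]
    have h1 := hb.2.2 _ ha
    have e : (g⁻¹ * a * g) ^ 2 = g⁻¹ * a ^ 2 * g := by
      rw [pow_two, pow_two]; group
    rwa [e] at h1

/-- **Timmesfeld replacement** -/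
theorem bo_quad (hW : IsElementaryAbelian 2 W) (hAW : A ≤ normalizer (W : Set G)) (hb : IsBestOffenderOn 2 W A)
    {U : Subgroup G} (hU : U ≤ W) (hAU : A ≤ normalizer (U : Set G)) (hne : ¬ U ≤ centralizer (A : Set G)) :
    IsBestOffenderOn 2 W (A ⊓ centralizer ((⁅U, A⁆ : Subgroup G) : Set G)) ∧
      ¬ U ≤ centralizer ((A ⊓ centralizer ((⁅U, A⁆ : Subgroup G) : Set G) : Subgroup G) : Set G) := by
  have : Fact (Nat.Prime 2) := ⟨Nat.prime_two⟩
  obtain ⟨h1, h2, -⟩ := S0599.result W A hW hAW hb U hU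
  refine ⟨h1, fun hc => hne ?_⟩
  have h3 : U ≤ ⁅U, A⁆ ⊔ (W ⊓ centralizer (A : Set G)) := by
    rw [← h2]
    exact le_inf hU hc
  have hUA : ⁅U, A⁆ ≤ U := by
    rw [commutator_le]
    intro u hu a ha
    exact commutator_mem_of_mem hAU hu ha
  have hUe : IsElementaryAbelian 2 U :=
    ⟨⟨⟨fun a b => Subtype.ext (congrArg (fun t : W => (t : G))
      (hW.1.is_comm.comm ⟨a, hU a.2⟩ ⟨b, hU b.2⟩))⟩⟩, fun a ha => hW.2 a (hU ha)⟩
  have h4 : U ≤ ⁅U, A⁆ ⊔ (U ⊓ centralizer (A : Set G)) := by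
    have hab : ∀ x ∈ W, ∀ y ∈ W, x * y = y * x := fun x hx y hy =>
      congrArg Subtype.val (hW.1.1.1 (⟨x, hx⟩ : W) (⟨y, hy⟩ : W))
    intro u hu
    have h5 := h3 hu
    obtain ⟨x, hx, y, hy, e⟩ := mem_sup_of_comm (X := ⁅U, A⁆) (Y := W ⊓ centralizer (A : Set G))
      (fun x hx y hy => hab x (hU (hUA hx)) y hy.1) h5
    have hyU : y ∈ U := by
      have : y = x⁻¹ * u := by rw [← e]; group
      rw [this]
      exact mul_mem (inv_mem (hUA hx)) hu
    rw [← e]
    exact mul_mem (mem_sup_left hx) (mem_sup_right ⟨hyU, hy.2⟩)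
  have h5 := commutator_eq_bot_aux hUe hAU (fun a ha => by
    have := hb.2.2 a ha
    exact centralizer_le (SetLike.coe_subset_coe.2 hU) this) h4
  rwa [commutator_eq_bot_iff_le_centralizer] at h5

end Cfsg.Agent.Omega.NO3S.SN2.BA

end

section


/-!
# THEOREM PERM+ (helper278, #24948, #25094): the input

One `S`-orbit of blocks `V i` (natural `SL₂(q)`-modules with root lines `Z i`, `S` may permute them and induce fields),
`D = C_G(Z)`, `O = O₂(D)`, the left case `J(O)` moves a block. `P` is a minimal parabolic which is irreducible on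
`⨆ V`, `N` the abelian group `N_j ≤ O` normalised by `P` and `D`. Output (PermAll): `D` permutes the `Z i`.
-/

set_option autoImplicit false
set_option linter.unusedSectionVars false

namespace Cfsg.Agent.Omega.NOThreeL.RWide

open Subgroup Cfsg Cfsg.Agent.ZN Cfsg.Agent.ZN.ChoiceBase Cfsg.Agent.MinSimple.MinParabolic

universe u

variable {G : Type u} [Group G]

/-- `F` acts on `V` trivially or as the full root group with line `Z`. -/
structure RootOn (F V Z : Subgroup G) : Prop where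
  norm : F ≤ normalizer (V : Set G)
  fixZ : ∀ f ∈ F, ∀ z ∈ Z, f * z = z * f
  comm : ∀ f ∈ F, ∀ v ∈ V, f * v * f⁻¹ * v⁻¹ ∈ Z
  full : F ≤ centralizer (V : Set G) ∨ ∀ v ∈ V, v ∉ Z →
    (∀ z ∈ Z, ∃ f ∈ F, f * v * f⁻¹ * v⁻¹ = z) ∧ ∀ f ∈ F, f * v = v * f → f ∈ centralizer (V : Set G)

/-- The input of THEOREM PERM+. -/
structure PIn (S : Sylow 2 G) (D P N : Subgroup G) {ι : Type*} (V Z : ι → Subgroup G) : Prop where
  SD : (S : Subgroup G) ≤ D
  VO : ∀ i, V i ≤ o2 D
  sq : ∀ i, ∀ v ∈ V i, v * v = 1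
  noff : ∀ x ∈ D, ∀ i j, ∀ v ∈ V i, ∀ w ∈ cj x (V j), v * w = w * v
  ind : iSupIndep V
  ZV : ∀ i, Z i ≤ V i
  Zne : ∀ i, Z i ≠ ⊥
  card : ∀ i, Nat.card (V i) = Nat.card (Z i) ^ 2
  perm : ∀ s ∈ normalizer ((S : Subgroup G) : Set G) ⊓ D, ∀ i, ∃ j, cj s (V i) = V j ∧ cj s (Z i) = Z j
  trans : ∀ i j, ∃ s ∈ (S : Subgroup G), cj s (V i) = V j
  root : ∀ i, ∀ g ∈ (S : Subgroup G), (∀ v ∈ V i, g * v * g⁻¹ * v⁻¹ ∈ Z i) → (∀ v ∈ V i, g * v = v * g) ∨
    ∀ z ∈ Z i, ∃ v ∈ V i, g * v * g⁻¹ * v⁻¹ = z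
  /-- best offenders of `S` on `⨆ V` are products of full root groups -/
  ffp : ∀ F : Subgroup G, F ≤ (S : Subgroup G) → IsBestOffenderOn 2 (⨆ i, V i) F → ∀ i, RootOn F (V i) (Z i)
  mov : ∃ A ∈ AA (o2 D), ¬ A ≤ centralizer ((⨆ i, V i : Subgroup G) : Set G)
  Pmin : IsMinPar (S : Subgroup G) P
  PV : P ≤ normalizer ((⨆ i, V i : Subgroup G) : Set G)
  irr : ∀ U : Subgroup G, U ≤ ⨆ i, V i → P ≤ normalizer (U : Set G) → U ≠ ⊥ → U = ⨆ i, V i
  PN : P ≤ normalizer (N : Set G)
  DN : D ≤ normalizer (N : Set G)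
  VN : ∀ i, V i ≤ N
  NO : N ≤ o2 D
  Nsq : ∀ n ∈ N, n * n = 1
  Nab : ∀ m ∈ N, ∀ n ∈ N, m * n = n * m
  /-- a vector of `Z(D) ∩ ⨆ Z` with all components `≠ 1` -/
  vec : ∃ z : G, z ∈ ⨆ i, Z i ∧ (∀ x ∈ D, x * z = z * x) ∧ ∀ i, z ∉ ⨆ (j) (_ : j ≠ i), V j

end Cfsg.Agent.Omega.NOThreeL.RWide

end

section


/-!
# THEOREM PERM+ (helper278, #24948, #25094), the count of (A5), abstract

`F` acts on the abelian group `M` and on the finite set `Λ` of lines, `M` is "direct modulo `W₀`" with summands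
`W_l` (`dir`), every `F`-orbit on `Λ` has at most two elements (`two`), `F₀` is the kernel of `F` on `Λ`, `e l ∈ W_l - W₀` is
fixed by `F₀` if `l` is moved, `n ∈ W₀` is fixed by `F₀` and not by `F`. Then `2 |F| |C_M(F)| ≤ |F₀| |C_M(F₀)|`.
-/

set_option autoImplicit false
set_option linter.unusedSectionVars false

namespace Cfsg.Agent.Omega.NOThreeL.RWide.PermCount

open Subgroup

variable {M F Λ : Type*} [CommGroup M] [Finite M] [Group F] [Finite F] [MulDistribMulAction F M]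
  [MulAction F Λ] [Finite Λ]

/-- fixed points -/
def fx (M : Type*) [CommGroup M] {F : Type*} [Group F] [MulDistribMulAction F M] (B : Subgroup F) : Subgroup M where
  carrier := {m | ∀ b ∈ B, b • m = m}
  one_mem' := fun b _ => smul_one b
  mul_mem' := fun {x y} hx hy b hb => by rw [smul_mul', hx b hb, hy b hb]
  inv_mem' := fun {x} hx b hb => by rw [smul_inv', hx b hb]

theorem mem_fx {B : Subgroup F} {m : M} : m ∈ fx M B ↔ ∀ b ∈ B, b • m = m := Iff.rfl

theorem fx_anti {B C : Subgroup F} (h : B ≤ C) : fx M C ≤ fx M B := fun _ hm b hb => hm b (h hb)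

/-- representatives of the orbits of the moved lines -/
def Rep (F Λ : Type*) [Group F] [MulAction F Λ] : Type _ :=
  {l : Λ // (∃ f : F, f • l ≠ l) ∧ (Quotient.mk'' l : MulAction.orbitRel.Quotient F Λ).out = l}

instance : Finite (Rep F Λ) := Subtype.finite

theorem exists_rep {l : Λ} (h : ∃ f : F, f • l ≠ l) : ∃ r : Rep F Λ, ∃ g : F, g • r.1 = l := by
  obtain ⟨f, hf⟩ := h
  set r := (Quotient.mk'' l : MulAction.orbitRel.Quotient F Λ).out with hr
  have h1 : (Quotient.mk'' r : MulAction.orbitRel.Quotient F Λ) = Quotient.mk'' l := by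
    rw [hr]; exact Quotient.out_eq _
  have h2 : (MulAction.orbitRel F Λ).r r l := Quotient.exact h1
  have h3 : r ∈ MulAction.orbit F l := h2
  obtain ⟨g, hg⟩ := h3
  have hg' : g • l = r := hg
  refine ⟨⟨r, ⟨g * f * g⁻¹, ?_⟩, ?_⟩, g⁻¹, ?_⟩
  · intro e
    apply hf
    rw [← hg', ← mul_smul, mul_assoc, mul_assoc, inv_mul_cancel, mul_one, mul_smul] at e
    exact smul_left_cancel g e
  · rw [h1]
  · show g⁻¹ • r = l
    rw [← hg', inv_smul_smul]

theorem rep_eq {r s : Rep F Λ} {g : F} (h : g • r.1 = s.1) : r = s := by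
  apply Subtype.ext
  have h1 : (Quotient.mk'' r.1 : MulAction.orbitRel.Quotient F Λ) = Quotient.mk'' s.1 := by
    apply Quotient.sound
    show r.1 ∈ MulAction.orbit F s.1
    exact ⟨g⁻¹, by show g⁻¹ • s.1 = r.1; rw [← h, inv_smul_smul]⟩
  rw [← r.2.2, ← s.2.2, h1]

open Classical in
/-- **The count.** -/
theorem count (Wl : Λ → Subgroup M) (W₀ : Subgroup M)
    (hWl : ∀ (f : F) (l : Λ) (m : M), m ∈ Wl l → f • m ∈ Wl (f • l))
    (hW₀ : ∀ (f : F) (m : M), m ∈ W₀ → f • m ∈ W₀)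
    (dir : ∀ (l : Λ) (m : M), m ∈ Wl l → m ∈ W₀ ⊔ ⨆ (k : Λ) (_ : k ≠ l), Wl k → m ∈ W₀)
    (two : ∀ (f g : F) (l : Λ), f • l ≠ l → g • l ≠ l → f • l = g • l)
    (comm : ∀ (f g : F) (l : Λ), f • g • l = g • f • l)
    (F₀ : Subgroup F) (hF₀ : ∀ f : F, f ∈ F₀ ↔ ∀ l : Λ, f • l = l)
    (e : Λ → M) (he : ∀ l, e l ∈ Wl l) (hne : ∀ l, e l ∉ W₀)
    (fix : ∀ l : Λ, (∃ f : F, f • l ≠ l) → ∀ f ∈ F₀, f • e l = e l)
    {n : M} (hn : n ∈ W₀) (hnF : ∀ f ∈ F₀, f • n = n) (hnm : ∃ f : F, f • n ≠ n) :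
    2 * (Nat.card F * Nat.card (fx M (⊤ : Subgroup F))) ≤ Nat.card F₀ * Nat.card (fx M F₀) := by
  have : Fintype (Rep F Λ) := Fintype.ofFinite _
  -- `F / F₀` embeds in the functions on `Rep`
  let α : F ⧸ F₀ → (Rep F Λ → Bool) := Quotient.lift (fun f l => decide (f • l.1 ≠ l.1)) (by
    intro f g hfg
    have h1 : f⁻¹ * g ∈ F₀ := QuotientGroup.leftRel_apply.1 hfg
    funext l
    have h2 : f • l.1 = g • l.1 := by
      have := (hF₀ _).1 h1 l.1
      rw [mul_smul] at this
      rw [inv_smul_eq_iff] at this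
      exact this.symm
    simp only [h2])
  have hα : Function.Injective α := by
    intro x y
    induction x using Quotient.inductionOn' with
    | h f =>
      induction y using Quotient.inductionOn' with
      | h g =>
        intro h
        have h1 : ∀ l : Rep F Λ, f • l.1 = g • l.1 := by
          intro l
          have h2 : decide (f • l.1 ≠ l.1) = decide (g • l.1 ≠ l.1) := congrFun h l
          by_cases h3 : f • l.1 = l.1
          · have h4 : ¬ (g • l.1 ≠ l.1) := by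
              intro h5
              rw [decide_eq_true h5, decide_eq_true_iff] at h2
              exact h2 h3
            rw [h3, not_not.1 h4]
          · have h4 : g • l.1 ≠ l.1 := by
              rw [decide_eq_true h3] at h2
              exact decide_eq_true_iff.1 h2.symm
            exact two f g l.1 h3 h4
        apply Quotient.sound'
        rw [QuotientGroup.leftRel_apply, hF₀]
        intro l
        rw [mul_smul, inv_smul_eq_iff]
        by_cases hl : ∃ k : F, k • l ≠ l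
        · obtain ⟨r, k, rfl⟩ := exists_rep hl
          rw [comm g k, comm f k, h1 r]
        · have h2 : ∀ k : F, k • l = l := fun k => not_not.1 fun h3 => hl ⟨k, h3⟩
          rw [h2, h2]
  -- the vectors
  let w : (Rep F Λ → Bool) → Bool → M := fun T ε => (∏ l : Rep F Λ, if T l then e l.1 else 1) * if ε then n else 1
  have hw : ∀ T ε, w T ε ∈ fx M F₀ := by
    intro T ε f hf
    have h1 : ∀ l : Rep F Λ, f • (if T l then e l.1 else 1) = if T l then e l.1 else 1 := by
      intro l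
      split_ifs
      · exact fix l.1 l.2.1 f hf
      · exact smul_one f
    show f • ((∏ l : Rep F Λ, if T l then e l.1 else 1) * if ε then n else 1) = _
    rw [smul_mul', Finset.smul_prod']
    congr 1
    · exact Finset.prod_congr rfl fun l _ => h1 l
    · split_ifs
      · exact hnF f hf
      · exact smul_one f
  have hinj : ∀ T ε T' ε', (w T ε)⁻¹ * w T' ε' ∈ fx M (⊤ : Subgroup F) → T = T' ∧ ε = ε' := by
    intro T ε T' ε' h
    let c : Rep F Λ → M := fun l => (if T l then e l.1 else 1)⁻¹ * (if T' l then e l.1 else 1)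
    let d : M := (if ε then n else 1)⁻¹ * (if ε' then n else 1)
    have hd : d ∈ W₀ := by
      refine mul_mem (inv_mem ?_) ?_ <;> split_ifs <;> first | exact hn | exact one_mem _
    have hx : (w T ε)⁻¹ * w T' ε' = (∏ l, c l) * d := by
      show ((∏ l : Rep F Λ, if T l then e l.1 else 1) * if ε then n else 1)⁻¹ *
        ((∏ l : Rep F Λ, if T' l then e l.1 else 1) * if ε' then n else 1) = _
      rw [mul_inv, ← Finset.prod_inv_distrib, mul_mul_mul_comm, ← Finset.prod_mul_distrib]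
    have hc : ∀ l, c l ∈ Wl l.1 := by
      intro l
      refine mul_mem (inv_mem ?_) ?_ <;> split_ifs <;> first | exact he _ | exact one_mem _
    rw [hx] at h
    have hT : T = T' := by
      by_contra hne'
      obtain ⟨l₀, hl₀⟩ := Function.ne_iff.1 hne'
      obtain ⟨f, hf⟩ := l₀.2.1
      have h1 : f • ((∏ l, c l) * d) = (∏ l, c l) * d := h f (mem_top f)
      set P : Subgroup M := W₀ ⊔ ⨆ (k : Λ) (_ : k ≠ l₀.1), Wl k with hP
      have hle : ∀ k, k ≠ l₀.1 → Wl k ≤ P := fun k hk =>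
        (le_iSup₂_of_le (f := fun (k : Λ) (_ : k ≠ l₀.1) => Wl k) k hk le_rfl).trans le_sup_right
      have h2 : f • ((∏ l, c l) * d) ∈ P := by
        rw [smul_mul', Finset.smul_prod']
        refine mul_mem (prod_mem fun l _ => ?_) (mem_sup_left (hW₀ f d hd))
        refine hle (f • l.1) ?_ (hWl f l.1 _ (hc l))
        intro h3
        have h4 := rep_eq h3
        rw [h4] at h3
        exact hf h3
      rw [h1, ← Finset.mul_prod_erase Finset.univ c (Finset.mem_univ l₀), mul_assoc] at h2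
      have h3 : (∏ l ∈ Finset.univ.erase l₀, c l) * d ∈ P := by
        refine mul_mem (prod_mem fun l hl => ?_) (mem_sup_left hd)
        refine hle l.1 (fun h4 => ?_) (hc l)
        exact (Finset.mem_erase.1 hl).1 (Subtype.ext h4)
      have h4 : c l₀ ∈ P := by
        have := mul_mem h2 (inv_mem h3)
        rwa [mul_inv_cancel_right] at this
      have h5 := dir l₀.1 _ (hc l₀) h4
      have h6 : e l₀.1 ∈ W₀ := by
        cases hTl : T l₀ <;> cases hTl' : T' l₀
        · rw [hTl, hTl'] at hl₀; exact absurd rfl hl₀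
        · have : c l₀ = e l₀.1 := by simp [c, hTl, hTl']
          rwa [this] at h5
        · have : c l₀ = (e l₀.1)⁻¹ := by simp [c, hTl, hTl']
          rw [this] at h5
          exact (inv_mem_iff).1 h5
        · rw [hTl, hTl'] at hl₀; exact absurd rfl hl₀
      exact hne _ h6
    refine ⟨hT, ?_⟩
    have h7 : (∏ l, c l) = 1 := by
      refine Finset.prod_eq_one fun l _ => ?_
      simp only [c, hT]
      exact inv_mul_cancel _
    rw [h7, one_mul] at h
    by_contra hε
    have h8 : n ∈ fx M (⊤ : Subgroup F) := by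
      cases hε1 : ε <;> cases hε2 : ε'
      · rw [hε1, hε2] at hε; exact absurd rfl hε
      · have : d = n := by simp [d, hε1, hε2]
        rwa [this] at h
      · have : d = n⁻¹ := by simp [d, hε1, hε2]
        rw [this] at h
        exact inv_mem_iff.1 h
      · rw [hε1, hε2] at hε; exact absurd rfl hε
    obtain ⟨f, hf⟩ := hnm
    exact hf (h8 f (mem_top f))
  -- counting
  have c1 : F₀.index ≤ Nat.card (Rep F Λ → Bool) := Nat.card_le_card_of_injective α hα
  have c2 : Nat.card ((Rep F Λ → Bool) × Bool) ≤ (fx M (⊤ : Subgroup F)).relIndex (fx M F₀) := by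
    refine Nat.card_le_card_of_injective
      (fun p => (QuotientGroup.mk ⟨w p.1 p.2, hw p.1 p.2⟩ : fx M F₀ ⧸ (fx M (⊤ : Subgroup F)).subgroupOf (fx M F₀))) ?_
    rintro ⟨T, ε⟩ ⟨T', ε'⟩ h
    have h1 := QuotientGroup.eq.1 h
    have h2 := hinj T ε T' ε' (mem_subgroupOf.1 h1)
    rw [h2.1, h2.2]
  have c3 : Nat.card ((Rep F Λ → Bool) × Bool) = Nat.card (Rep F Λ → Bool) * 2 := by
    rw [Nat.card_prod]; simp
  have c4 : Nat.card F = Nat.card F₀ * F₀.index := F₀.card_mul_index.symm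
  have c5 : Nat.card (fx M F₀) = Nat.card (fx M (⊤ : Subgroup F)) * (fx M (⊤ : Subgroup F)).relIndex (fx M F₀) := by
    have h1 := relIndex_mul_relIndex (⊥ : Subgroup M) (fx M (⊤ : Subgroup F)) (fx M F₀) bot_le (fx_anti le_top)
    rw [relIndex_bot_left, relIndex_bot_left] at h1
    exact h1.symm
  rw [c4, c5]
  calc 2 * (Nat.card F₀ * F₀.index * Nat.card (fx M (⊤ : Subgroup F)))
      = Nat.card F₀ * Nat.card (fx M (⊤ : Subgroup F)) * (F₀.index * 2) := by ring
    _ ≤ Nat.card F₀ * Nat.card (fx M (⊤ : Subgroup F)) * (fx M (⊤ : Subgroup F)).relIndex (fx M F₀) := by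
        refine Nat.mul_le_mul_left _ ?_
        calc F₀.index * 2 ≤ Nat.card (Rep F Λ → Bool) * 2 := Nat.mul_le_mul_right _ c1
          _ = Nat.card ((Rep F Λ → Bool) × Bool) := c3.symm
          _ ≤ _ := c2
    _ = _ := by ring

end Cfsg.Agent.Omega.NOThreeL.RWide.PermCount

end

section


/-!
# THEOREM PERM+, case A (helper278, #24948 (A), #25094)

`PA R S K W V Z AA` : `R` is a minimal parabolic over `S` (`min`), `K = O₂(R)`, `W ≥ ⨆ (cj r (V i))` elementary abelian and
normal in `R`, best offenders of `S` on `W` act on the blocks as full root groups, `AA` the `R`-invariant set of pure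
groups (a pure group moves only blocks with one and the same line).

* **`PA.perm_of`** : if some best offender `F ≤ S` of `W` does not lie in `K`, then `R` permutes the lines `Z i`.
-/

set_option autoImplicit false
set_option linter.unusedSectionVars false

namespace Cfsg.Agent.Omega.NOThreeL.RWide

open Subgroup Cfsg Cfsg.Agent.ZN.ChoiceBase
open Cfsg.Agent.Omega.NO3S.SN2.BA (bo_quad bo_cj)
open scoped commutatorElement

universe u

variable {G : Type u} [Group G] {ι : Type*}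

/-- The input of case A. -/
structure PA (R S K W : Subgroup G) (V Z : ι → Subgroup G) (AA : Set (Subgroup G)) : Prop where
  SR : S ≤ R
  KS : K ≤ S
  RK : R ≤ normalizer (K : Set G)
  min : ∀ N : Subgroup G, N ≤ R → R ≤ normalizer (N : Set G) → N ⊓ S ≤ K ∨ R ≤ N ⊔ S
  Wel : IsElementaryAbelian 2 W
  RW : R ≤ normalizer (W : Set G)
  VW : ∀ i, V i ≤ W
  ZV : ∀ i, Z i ≤ V i
  perm : ∀ s ∈ S, ∀ i, ∃ j, cj s (V i) = V j ∧ cj s (Z i) = Z j
  inj : ∀ i j, Z i = Z j → i = j
  root : ∀ i, ∀ g ∈ S, (∀ v ∈ V i, g * v * g⁻¹ * v⁻¹ ∈ Z i) → (∀ v ∈ V i, g * v = v * g) ∨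
    ∀ z ∈ Z i, ∃ v ∈ V i, g * v * g⁻¹ * v⁻¹ = z
  ne : ∀ i, ¬ V i ≤ Z i
  off : ∀ F : Subgroup G, F ≤ S → IsBestOffenderOn 2 W F → ∀ i, RootOn F (V i) (Z i)
  AAc : ∀ r ∈ R, ∀ A ∈ AA, cj r A ∈ AA
  AAone : ∀ A ∈ AA, ∀ r ∈ R, ∀ i, ∀ s ∈ R, ∀ j, ¬ A ≤ centralizer (cj r (V i) : Set G) →
    ¬ A ≤ centralizer (cj s (V j) : Set G) → cj r (Z i) = cj s (Z j)
  AAex : ∀ i, ∃ A ∈ AA, ∀ v ∈ V i, (∀ a ∈ A, a * v = v * a) → v ∈ Z i
  AAz : ∀ A ∈ AA, ∀ i, ∀ a ∈ A, ∀ z ∈ Z i, a * z = z * a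

theorem RootOn.cj' {F V Z : Subgroup G} (h : RootOn F V Z) (r : G) : RootOn (cj r F) (cj r V) (cj r Z) where
  norm := fun f hf => by
    have h1 := h.norm (mem_cj.1 hf)
    rw [← SetLike.mem_coe] at h1 ⊢
    rw [SetLike.mem_coe, ← cj_normalizer, mem_cj]
    exact h1
  fixZ := fun f hf z hz => by
    have h1 := h.fixZ _ (mem_cj.1 hf) _ (mem_cj.1 hz)
    calc f * z = r * (r⁻¹ * f * r * (r⁻¹ * z * r)) * r⁻¹ := by group
      _ = r * (r⁻¹ * z * r * (r⁻¹ * f * r)) * r⁻¹ := by rw [h1]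
      _ = z * f := by group
  comm := fun f hf v hv => by
    have h1 := h.comm _ (mem_cj.1 hf) _ (mem_cj.1 hv)
    rw [mem_cj]
    have e : r⁻¹ * (f * v * f⁻¹ * v⁻¹) * r =
        r⁻¹ * f * r * (r⁻¹ * v * r) * (r⁻¹ * f * r)⁻¹ * (r⁻¹ * v * r)⁻¹ := by group
    rwa [e]
  full := by
    rcases h.full with h1 | h1
    · left
      intro f hf
      have h2 := h1 (mem_cj.1 hf)
      rw [← cj_centralizer, mem_cj]
      exact h2
    · right
      intro v hv hvZ
      obtain ⟨h2, h3⟩ := h1 _ (mem_cj.1 hv) (fun h4 => hvZ (mem_cj.2 h4))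
      refine ⟨fun z hz => ?_, fun f hf hfv => ?_⟩
      · obtain ⟨f, hf, e⟩ := h2 _ (mem_cj.1 hz)
        refine ⟨r * f * r⁻¹, mem_cj.2 (by
          have : r⁻¹ * (r * f * r⁻¹) * r = f := by group
          rwa [this]), ?_⟩
        calc r * f * r⁻¹ * v * (r * f * r⁻¹)⁻¹ * v⁻¹
            = r * (f * (r⁻¹ * v * r) * f⁻¹ * (r⁻¹ * v * r)⁻¹) * r⁻¹ := by group
          _ = z := by rw [e]; group
      · have h4 := h3 _ (mem_cj.1 hf) (by
          calc r⁻¹ * f * r * (r⁻¹ * v * r) = r⁻¹ * (f * v) * r := by group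
            _ = r⁻¹ * (v * f) * r := by rw [hfv]
            _ = _ := by group)
        rw [← cj_centralizer, mem_cj]
        exact h4

namespace PA

variable {R S K W : Subgroup G} {V Z : ι → Subgroup G} {AA : Set (Subgroup G)} (h : PA R S K W V Z AA)
include h

theorem Wab {a b : G} (ha : a ∈ W) (hb : b ∈ W) : a * b = b * a :=
  congrArg Subtype.val (h.Wel.1.1.1 (⟨a, ha⟩ : W) (⟨b, hb⟩ : W))

theorem Wsq {a : G} (ha : a ∈ W) : a * a = 1 := by
  have := h.Wel.2 a ha
  rwa [pow_two] at this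

theorem KR : K ≤ R := h.KS.trans h.SR

theorem cjV_le {r : G} (hr : r ∈ R) (i : ι) : cj r (V i) ≤ W := by
  refine (cj_mono r (h.VW i)).trans ?_
  rw [cj_eq_of_mem_normalizer (h.RW hr)]

theorem cjZ_le (r : G) (i : ι) : cj r (Z i) ≤ cj r (V i) := cj_mono r (h.ZV i)

theorem exR {r : G} (hr : r ∈ R) (i : ι) : ∃ A ∈ AA, ∀ v ∈ cj r (V i), (∀ a ∈ A, a * v = v * a) → v ∈ cj r (Z i) := by
  obtain ⟨A, hA, h1⟩ := h.AAex i
  refine ⟨cj r A, h.AAc r hr A hA, fun v hv hc => mem_cj.2 (h1 _ (mem_cj.1 hv) fun a ha => ?_)⟩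
  have h2 := hc (r * a * r⁻¹) (mem_cj.2 (by
    have : r⁻¹ * (r * a * r⁻¹) * r = a := by group
    rwa [this]))
  calc a * (r⁻¹ * v * r) = r⁻¹ * (r * a * r⁻¹ * v) * r := by group
    _ = r⁻¹ * (v * (r * a * r⁻¹)) * r := by rw [h2]
    _ = _ := by group

theorem zR {r : G} (hr : r ∈ R) {A : Subgroup G} (hA : A ∈ AA) (i : ι) {a z : G} (ha : a ∈ A) (hz : z ∈ cj r (Z i)) :
    a * z = z * a := by
  have h1 := h.AAz _ (h.AAc r⁻¹ (inv_mem hr) A hA) i (r⁻¹ * a * r) (mem_cj.2 (by
    have : r⁻¹⁻¹ * (r⁻¹ * a * r) * r⁻¹ = a := by group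
    rwa [this])) _ (mem_cj.1 hz)
  calc a * z = r * (r⁻¹ * a * r * (r⁻¹ * z * r)) * r⁻¹ := by group
    _ = r * (r⁻¹ * z * r * (r⁻¹ * a * r)) * r⁻¹ := by rw [h1]
    _ = _ := by group

theorem cj_mem_K {r g : G} (hr : r ∈ R) (hg : g ∈ K) : r⁻¹ * g * r ∈ K := by
  have h1 := (mem_normalizer_iff.1 (inv_mem (h.RK hr)) g).1 hg
  rwa [inv_inv] at h1

theorem offR [Finite G] {F : Subgroup G} (hF : F ≤ K) (hb : IsBestOffenderOn 2 W F) {r : G} (hr : r ∈ R) (i : ι) :
    RootOn F (cj r (V i)) (cj r (Z i)) := by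
  have h1 : cj r⁻¹ F ≤ S := by
    intro g hg
    have h2 := mem_cj.1 hg
    rw [inv_inv] at h2
    have h3 := h.cj_mem_K hr (hF h2)
    have e : r⁻¹ * (r * g * r⁻¹) * r = g := by group
    rw [e] at h3
    exact h.KS h3
  have h2 := h.off _ h1 (bo_cj hb (h.RW (inv_mem hr))) i
  have h3 := h2.cj' r
  rwa [cj_cj_inv] at h3

theorem permR {g r : G} (hg : g ∈ K) (hr : r ∈ R) (i : ι) (hz : cj g (cj r (Z i)) = cj r (Z i)) :
    cj g (cj r (V i)) = cj r (V i) := by
  have hgS : r⁻¹ * g * r ∈ S := h.KS (h.cj_mem_K hr hg)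
  obtain ⟨j, hj1, hj2⟩ := h.perm _ hgS i
  have e : ∀ X : Subgroup G, cj g (cj r X) = cj r (cj (r⁻¹ * g * r) X) := by
    intro X
    rw [cj_cj, cj_cj]
    congr 1
    group
  have h1 : cj (r⁻¹ * g * r) (Z i) = Z i := by
    rw [e] at hz
    have := congrArg (cj r⁻¹) hz
    rwa [cj_inv_cj, cj_inv_cj] at this
  have h2 : i = j := h.inj i j (by rw [← hj2, h1])
  rw [e, hj1, ← h2]

theorem rootR {g r : G} (hg : g ∈ K) (hr : r ∈ R) (i : ι)
    (hc : ∀ v ∈ cj r (V i), g * v * g⁻¹ * v⁻¹ ∈ cj r (Z i)) :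
    (∀ v ∈ cj r (V i), g * v = v * g) ∨ ∀ z ∈ cj r (Z i), ∃ v ∈ cj r (V i), g * v * g⁻¹ * v⁻¹ = z := by
  have hgS : r⁻¹ * g * r ∈ S := h.KS (h.cj_mem_K hr hg)
  have hm : ∀ {X : Subgroup G} {x : G}, x ∈ X → r * x * r⁻¹ ∈ cj r X := fun {X x} hx => mem_cj.2 (by
    have : r⁻¹ * (r * x * r⁻¹) * r = x := by group
    rwa [this])
  rcases h.root i _ hgS (fun v hv => by
    have h1 := mem_cj.1 (hc _ (hm hv))
    have e : r⁻¹ * (g * (r * v * r⁻¹) * g⁻¹ * (r * v * r⁻¹)⁻¹) * r =
      r⁻¹ * g * r * v * (r⁻¹ * g * r)⁻¹ * v⁻¹ := by group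
    rwa [e] at h1) with h1 | h1
  · left
    intro v hv
    have h2 := h1 _ (mem_cj.1 hv)
    calc g * v = r * (r⁻¹ * g * r * (r⁻¹ * v * r)) * r⁻¹ := by group
      _ = r * (r⁻¹ * v * r * (r⁻¹ * g * r)) * r⁻¹ := by rw [h2]
      _ = _ := by group
  · right
    intro z hz
    obtain ⟨v, hv, e⟩ := h1 _ (mem_cj.1 hz)
    refine ⟨r * v * r⁻¹, hm hv, ?_⟩
    calc g * (r * v * r⁻¹) * g⁻¹ * (r * v * r⁻¹)⁻¹ = r * (r⁻¹ * g * r * v * (r⁻¹ * g * r)⁻¹ * v⁻¹) * r⁻¹ := by group
      _ = z := by rw [e]; group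

/-- two elements of an offender commute on `W` -/
theorem commW {F : Subgroup G} (_hF : F ≤ R) (hb : IsBestOffenderOn 2 W F) {f g w : G} (hf : f ∈ F) (hg : g ∈ F)
    (hw : w ∈ W) : f * (g * w * g⁻¹) * f⁻¹ = g * (f * w * f⁻¹) * g⁻¹ := by
  have h1 : ⁅f⁻¹, g⁻¹⁆ ∈ centralizer (W : Set G) := hb.2.1 (commutator_mem_commutator (inv_mem hf) (inv_mem hg))
  have h2 := mem_centralizer_iff.1 h1 w hw
  rw [commutatorElement_def, inv_inv, inv_inv] at h2
  -- `w (f⁻¹ g⁻¹ f g) = (f⁻¹ g⁻¹ f g) w`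
  calc f * (g * w * g⁻¹) * f⁻¹ = g * f * ((f⁻¹ * g⁻¹ * f * g) * w) * (f⁻¹ * g⁻¹ * f * g)⁻¹ * (g * f)⁻¹ := by group
    _ = g * f * (w * (f⁻¹ * g⁻¹ * f * g)) * (f⁻¹ * g⁻¹ * f * g)⁻¹ * (g * f)⁻¹ := by rw [h2]
    _ = _ := by group

theorem memW {f w : G} (hf : f ∈ R) (hw : w ∈ W) : f * w * f⁻¹ ∈ W := (mem_normalizer_iff.1 (h.RW hf) w).1 hw

/-- **(A4)**: a minimal best offender outside `K` is quadratic on the blocks with moved lines. -/
theorem quad [Finite G] {F : Subgroup G} (hFS : F ≤ S) (hb : IsBestOffenderOn 2 W F)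
    (hmin : ∀ F' : Subgroup G, F' ≤ S → IsBestOffenderOn 2 W F' → ¬ F' ≤ K → Nat.card F ≤ Nat.card F')
    {r : G} (hr : r ∈ R) (i : ι) {f₀ : G} (hf₀ : f₀ ∈ F) (hmv : cj f₀ (cj r (Z i)) ≠ cj r (Z i))
    {f g v : G} (hf : f ∈ F) (hg : g ∈ F) (hv : v ∈ cj r (V i)) :
    g * (f * v * f⁻¹ * v⁻¹) = f * v * f⁻¹ * v⁻¹ * g := by
  have hFR : F ≤ R := hFS.trans h.SR
  have hVW := h.cjV_le hr i
  -- the group `U`
  set U : Subgroup G := ⨆ (k) (_ : k ∈ F), cj k (cj r (V i)) with hU
  have hkU : ∀ k ∈ F, cj k (cj r (V i)) ≤ U := fun k hk =>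
    le_iSup₂_of_le (f := fun (k : G) (_ : k ∈ F) => cj k (cj r (V i))) k hk le_rfl
  have hVU : cj r (V i) ≤ U := by
    have := hkU 1 (one_mem F)
    rwa [cj_one] at this
  have hUW : U ≤ W := by
    refine iSup₂_le fun k hk => ?_
    rw [cj_cj]
    exact h.cjV_le (mul_mem (hFR hk) hr) i
  have hFU : F ≤ normalizer (U : Set G) := by
    intro k hk
    apply mem_normalizer_of_cj_le
    rw [hU]
    show Subgroup.map _ _ ≤ _
    rw [Subgroup.map_iSup]
    refine iSup_le fun l => ?_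
    rw [Subgroup.map_iSup]
    refine iSup_le fun hl => ?_
    show cj k (cj l (cj r (V i))) ≤ _
    rw [cj_cj k l]
    exact hkU (k * l) (mul_mem hk hl)
  have hFW : F ≤ normalizer (W : Set G) := hFR.trans h.RW
  have hneU : ¬ U ≤ centralizer (F : Set G) := by
    intro hc
    apply hmv
    apply cj_eq_of_mem_normalizer
    rw [mem_normalizer_iff]
    intro z
    constructor
    · intro hz
      have h1 := mem_centralizer_iff.1 (hc (hVU (h.cjZ_le r i hz))) f₀ hf₀
      rw [h1, mul_inv_cancel_right]; exact hz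
    · intro hz
      have h1 := mem_centralizer_iff.1 (hc (hVU (h.cjZ_le r i hz))) f₀ hf₀
      have e : z = f₀ * z * f₀⁻¹ := by
        have h2 : f₀ * (f₀ * z * f₀⁻¹) = f₀ * z * f₀⁻¹ * f₀ := h1
        have h3 : f₀ * z * f₀⁻¹ = z := by
          have h4 := congrArg (fun t => f₀⁻¹ * t) h2
          simpa [mul_assoc] using h4
        exact h3.symm
      rw [e]; exact hz
  obtain ⟨hb', hne'⟩ := bo_quad h.Wel hFW hb hUW hFU hneU
  set F' : Subgroup G := F ⊓ centralizer ((⁅U, F⁆ : Subgroup G) : Set G) with hF'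
  have hcm : ∀ k ∈ F, ∀ u ∈ U, ∀ g ∈ F', g * (k * u * k⁻¹ * u⁻¹) = k * u * k⁻¹ * u⁻¹ * g := by
    intro k hk u hu g hg
    have h1 : ⁅u, k⁆ ∈ ⁅U, F⁆ := commutator_mem_commutator hu hk
    have h2 : k * u * k⁻¹ * u⁻¹ ∈ ⁅U, F⁆ := by
      have e : k * u * k⁻¹ * u⁻¹ = (⁅u, k⁆)⁻¹ := by
        rw [commutatorElement_def]; group
      rw [e]
      exact inv_mem h1
    exact (mem_centralizer_iff.1 hg.2 _ h2).symm
  by_cases hK : F' ≤ K
  · exfalso
    apply hne'
    rw [hU]
    refine iSup₂_le fun k hk => ?_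
    have hkr : k * r ∈ R := mul_mem (hFR hk) hr
    have h1 := h.offR hK hb' hkr i
    rw [← cj_cj k r (V i), ← cj_cj k r (Z i)] at h1
    rcases h1.full with h2 | h2
    · intro v hv
      rw [mem_centralizer_iff]
      intro g hg
      exact ((mem_centralizer_iff.1 (h2 hg)) v hv).symm
    · exfalso
      -- `f₁` centralises the line
      set f₁ : G := k * f₀ * k⁻¹ with hf₁
      have hf₁F : f₁ ∈ F := mul_mem (mul_mem hk hf₀) (inv_mem hk)
      have h3 : cj f₁ (cj k (cj r (Z i))) ≠ cj k (cj r (Z i)) := by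
        intro e
        apply hmv
        rw [cj_cj f₁ k, hf₁, inv_mul_cancel_right, ← cj_cj k f₀] at e
        have := congrArg (cj k⁻¹) e
        rwa [cj_inv_cj, cj_inv_cj] at this
      apply h3
      apply cj_eq_of_mem_normalizer
      have hfix : ∀ z ∈ cj k (cj r (Z i)), f₁ * z * f₁⁻¹ = z := by
        intro z hz
        obtain ⟨v₀, hv₀, hv₀Z⟩ : ∃ v₀ ∈ cj k (cj r (V i)), v₀ ∉ cj k (cj r (Z i)) := by
          by_contra hc
          push Not at hc
          apply h.ne i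
          intro x hx
          have e1 : ∀ {X : Subgroup G} {x : G}, x ∈ X ↔ (k * r) * x * (k * r)⁻¹ ∈ cj k (cj r X) := by
            intro X x
            rw [cj_cj, mem_cj]
            have : (k * r)⁻¹ * ((k * r) * x * (k * r)⁻¹) * (k * r) = x := by group
            rw [this]
          exact e1.2 (hc _ (e1.1 hx))
        obtain ⟨g, hg, e⟩ := (h2 v₀ hv₀ hv₀Z).1 z hz
        have hv₀U : v₀ ∈ U := hkU k hk hv₀
        have hv₀W : v₀ ∈ W := hUW hv₀U
        have hgF : g ∈ F := hg.1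
        have hgR := hFR hgF
        have hf₁R := hFR hf₁F
        have h4 := hcm f₁ hf₁F v₀ hv₀U g hg
        -- `x = f₁ v₀ f₁⁻¹`
        have e1 : f₁ * z * f₁⁻¹ = g * (f₁ * v₀ * f₁⁻¹) * g⁻¹ * (f₁ * v₀ * f₁⁻¹)⁻¹ := by
          rw [← e]
          have h5 := h.commW hFR hb hgF hf₁F hv₀W
          calc f₁ * (g * v₀ * g⁻¹ * v₀⁻¹) * f₁⁻¹ = f₁ * (g * v₀ * g⁻¹) * f₁⁻¹ * (f₁ * v₀ * f₁⁻¹)⁻¹ := by group
            _ = _ := by rw [← h5]
        have hx : f₁ * v₀ * f₁⁻¹ * v₀⁻¹ ∈ W := mul_mem (h.memW hf₁R hv₀W) (inv_mem hv₀W)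
        have hy : g * v₀ * g⁻¹ * v₀⁻¹ ∈ W := mul_mem (h.memW hgR hv₀W) (inv_mem hv₀W)
        have h6 := h.Wab hx hy
        rw [e1]
        set x := f₁ * v₀ * f₁⁻¹ * v₀⁻¹ with hxd
        have e2 : f₁ * v₀ * f₁⁻¹ = x * v₀ := by rw [hxd]; group
        rw [e2]
        calc g * (x * v₀) * g⁻¹ * (x * v₀)⁻¹ = (g * x) * (v₀ * g⁻¹ * v₀⁻¹) * x⁻¹ := by group
          _ = (x * g) * (v₀ * g⁻¹ * v₀⁻¹) * x⁻¹ := by rw [h4]
          _ = x * (g * v₀ * g⁻¹ * v₀⁻¹) * x⁻¹ := by group
          _ = g * v₀ * g⁻¹ * v₀⁻¹ * x * x⁻¹ := by rw [h6]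
          _ = z := by rw [mul_inv_cancel_right, e]
      rw [mem_normalizer_iff]
      intro z
      constructor
      · intro hz
        rw [hfix z hz]; exact hz
      · intro hz
        have h4 := hfix _ hz
        have e : f₁ * z * f₁⁻¹ = z := mul_left_cancel (mul_right_cancel h4)
        rwa [e] at hz
  · have h1 := hmin F' (inf_le_left.trans hFS) hb' hK
    have h2 : F' = F := eq_of_le_of_card_ge inf_le_left h1
    have hg' : g ∈ F' := h2.ge hg
    exact hcm f hf v (hVU hv) g hg'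

end PA

end Cfsg.Agent.Omega.NOThreeL.RWide

end

section


/-!
# THEOREM PERM+, case A: the end (helper278, #24948 (A5), #25094)

* **`PA.perm_of`** : if some best offender `F ≤ S` of `W` does not lie in `K`, then `R` permutes the lines `Z i`.
-/

set_option autoImplicit false
set_option linter.unusedSectionVars false

namespace Cfsg.Agent.Omega.NOThreeL.RWide

open Subgroup Cfsg Cfsg.Agent.ZN.ChoiceBase
open Cfsg.Agent.Omega.NO3S.SN2.BA (bo_quad bo_cj)
open scoped commutatorElement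

universe u

variable {G : Type u} [Group G] {ι : Type*}

/-- the elements of `R` which fix all lines -/
def R0 (R : Subgroup G) (Z : ι → Subgroup G) : Subgroup G where
  carrier := {x | x ∈ R ∧ ∀ r ∈ R, ∀ i, cj x (cj r (Z i)) = cj r (Z i)}
  one_mem' := ⟨one_mem _, fun r _ i => cj_one _⟩
  mul_mem' := fun {a b} ha hb => ⟨mul_mem ha.1 hb.1, fun r hr i => by
    rw [← cj_cj a b, hb.2 r hr i, ha.2 r hr i]⟩
  inv_mem' := fun {a} ha => ⟨inv_mem ha.1, fun r hr i => by
    conv_lhs => rw [← ha.2 r hr i]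
    rw [cj_inv_cj]⟩

theorem le_normalizer_R0 (R : Subgroup G) (Z : ι → Subgroup G) : R ≤ normalizer (R0 R Z : Set G) := by
  have key : ∀ y ∈ R, ∀ x ∈ R0 R Z, y * x * y⁻¹ ∈ R0 R Z := by
    intro y hy x hx
    refine ⟨mul_mem (mul_mem hy hx.1) (inv_mem hy), fun r hr i => ?_⟩
    have h1 := hx.2 (y⁻¹ * r) (mul_mem (inv_mem hy) hr) i
    have e : cj (y * x * y⁻¹) (cj r (Z i)) = cj y (cj x (cj (y⁻¹ * r) (Z i))) := by
      rw [cj_cj, cj_cj, cj_cj]
      congr 1
      group
    rw [e, h1, cj_cj]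
    congr 1
    group
  intro y hy
  rw [mem_normalizer_iff]
  intro x
  constructor
  · exact key y hy x
  · intro h
    have := key y⁻¹ (inv_mem hy) _ h
    have e : y⁻¹ * (y * x * y⁻¹) * y⁻¹⁻¹ = x := by group
    rwa [e] at this

/-- the lines -/
abbrev Lam (R : Subgroup G) (Z : ι → Subgroup G) : Type u := {l : Subgroup G // ∃ r ∈ R, ∃ i, cj r (Z i) = l}

/-- the blocks with line `l` generate `WG l` -/
def WG (R : Subgroup G) (V Z : ι → Subgroup G) (l : Subgroup G) : Subgroup G :=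
  sSup {X | ∃ r ∈ R, ∃ i, cj r (Z i) = l ∧ X = cj r (V i)}

theorem le_WG {R : Subgroup G} {V Z : ι → Subgroup G} {l : Subgroup G} {r : G} (hr : r ∈ R) {i : ι}
    (e : cj r (Z i) = l) : cj r (V i) ≤ WG R V Z l := le_sSup ⟨r, hr, i, e, rfl⟩

theorem cj_WG_le {R : Subgroup G} {V Z : ι → Subgroup G} {l : Subgroup G} {f : G} (hf : f ∈ R) :
    cj f (WG R V Z l) ≤ WG R V Z (cj f l) := by
  rw [cj_le_iff]
  refine sSup_le ?_
  rintro X ⟨r, hr, i, e, rfl⟩
  rw [← cj_le_iff, cj_cj]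
  exact le_WG (mul_mem hf hr) (by rw [← cj_cj, e])

/-- an elementary abelian group is a commutative group -/
abbrev cgW {W : Subgroup G} (hW : IsElementaryAbelian 2 W) : CommGroup W :=
  { (inferInstance : Group W) with mul_comm := fun a b => hW.1.1.1 a b }

namespace PA

variable {R S K W : Subgroup G} {V Z : ι → Subgroup G} {AA : Set (Subgroup G)} (h : PA R S K W V Z AA)
include h

theorem neR {r : G} (i : ι) : ∃ v ∈ cj r (V i), v ∉ cj r (Z i) := by
  by_contra hc
  push Not at hc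
  apply h.ne i
  intro x hx
  have e1 : ∀ {X : Subgroup G} {x : G}, x ∈ X ↔ r * x * r⁻¹ ∈ cj r X := by
    intro X x
    rw [mem_cj]
    have : r⁻¹ * (r * x * r⁻¹) * r = x := by group
    rw [this]
  exact e1.2 (hc _ (e1.1 hx))

/-- **Case A of PERM+.** -/
theorem perm_of [Finite G] {F₁ : Subgroup G} (hF₁ : F₁ ≤ S) (hb₁ : IsBestOffenderOn 2 W F₁) (hK₁ : ¬ F₁ ≤ K) :
    ∀ r ∈ R, ∀ i, ∃ j, cj r (Z i) = Z j := by
  rcases h.min (R0 R Z) (fun x hx => hx.1) (le_normalizer_R0 R Z) with hR0 | hR0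
  swap
  · let Y : Subgroup G :=
      { carrier := {x | (∀ i, ∃ j, cj x (Z i) = Z j) ∧ ∀ i, ∃ j, cj x⁻¹ (Z i) = Z j}
        one_mem' := ⟨fun i => ⟨i, cj_one _⟩, fun i => ⟨i, by rw [inv_one, cj_one]⟩⟩
        mul_mem' := by
          rintro a b ⟨ha, ha'⟩ ⟨hb, hb'⟩
          constructor
          · intro i
            obtain ⟨j, hj⟩ := hb i
            obtain ⟨k, hk⟩ := ha j
            exact ⟨k, by rw [← cj_cj, hj, hk]⟩
          · intro i
            obtain ⟨j, hj⟩ := ha' i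
            obtain ⟨k, hk⟩ := hb' j
            exact ⟨k, by rw [mul_inv_rev, ← cj_cj, hj, hk]⟩
        inv_mem' := by
          rintro a ⟨ha, ha'⟩
          exact ⟨ha', fun i => by rw [inv_inv]; exact ha i⟩ }
    have h1 : R0 R Z ≤ Y := by
      intro x hx
      have key : ∀ x ∈ R0 R Z, ∀ i, cj x (Z i) = Z i := by
        intro x hx i
        have := hx.2 1 (one_mem _) i
        rwa [cj_one] at this
      exact ⟨fun i => ⟨i, key x hx i⟩, fun i => ⟨i, key _ (inv_mem hx) i⟩⟩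
    have h2 : S ≤ Y := fun s hs => ⟨fun i => (h.perm s hs i).imp fun _ h => h.2,
      fun i => (h.perm _ (inv_mem hs) i).imp fun _ h => h.2⟩
    intro r hr i
    exact ((hR0.trans (sup_le h1 h2)) hr).1 i
  · exfalso
    -- a minimal offender
    obtain ⟨F, ⟨hFS, hb, hFK⟩, hmin⟩ := Set.exists_min_image
      {F : Subgroup G | F ≤ S ∧ IsBestOffenderOn 2 W F ∧ ¬ F ≤ K} (fun F => Nat.card F) (Set.toFinite _)
      ⟨F₁, hF₁, hb₁, hK₁⟩
    have hmin' : ∀ F' : Subgroup G, F' ≤ S → IsBestOffenderOn 2 W F' → ¬ F' ≤ K → Nat.card F ≤ Nat.card F' :=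
      fun F' h1 h2 h3 => hmin F' ⟨h1, h2, h3⟩
    have hFR : F ≤ R := hFS.trans h.SR
    let _ : CommGroup W := cgW h.Wel
    let _ : MulDistribMulAction F W :=
      { smul := fun f w => ⟨f * w * (f : G)⁻¹, h.memW (hFR f.2) w.2⟩
        one_smul := fun w => Subtype.ext (by
          show (1 : G) * (w : G) * (1 : G)⁻¹ = w
          rw [one_mul, inv_one, mul_one])
        mul_smul := fun f g w => Subtype.ext (by
          show (f : G) * g * w * ((f : G) * g)⁻¹ = f * (g * w * (g : G)⁻¹) * (f : G)⁻¹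
          group)
        smul_mul := fun f v w => Subtype.ext (by
          show (f : G) * (v * w) * (f : G)⁻¹ = f * v * (f : G)⁻¹ * (f * w * (f : G)⁻¹)
          group)
        smul_one := fun f => Subtype.ext (by
          show (f : G) * 1 * (f : G)⁻¹ = 1
          group) }
    let _ : MulAction F (Lam R Z) :=
      { smul := fun f l => ⟨cj (f : G) l.1, by
          obtain ⟨r, hr, i, e⟩ := l.2
          exact ⟨f * r, mul_mem (hFR f.2) hr, i, by rw [← cj_cj, e]⟩⟩
        one_smul := fun l => Subtype.ext (cj_one _)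
        mul_smul := fun f g l => Subtype.ext (cj_cj _ _ _).symm }
    have hsm : ∀ (f : F) (w : W), ((f • w : W) : G) = f * w * (f : G)⁻¹ := fun _ _ => rfl
    have hsl : ∀ (f : F) (l : Lam R Z), (f • l).1 = cj (f : G) l.1 := fun _ _ => rfl
    have hl : ∀ l : Lam R Z, ∃ r ∈ R, ∃ i, cj r (Z i) = l.1 := fun l => l.2
    choose ρ hρ κ hκ using hl
    have hVW : ∀ l : Lam R Z, cj (ρ l) (V (κ l)) ≤ W := fun l => h.cjV_le (hρ l) _
    have hlW : ∀ l : Lam R Z, l.1 ≤ W := fun l => by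
      rw [← hκ l]
      exact (h.cjZ_le _ _).trans (hVW l)
    let Wl : Lam R Z → Subgroup W := fun l => (WG R V Z l.1).subgroupOf W
    let W₀ : Subgroup W :=
      { carrier := {w | ∀ A ∈ AA, ∀ a ∈ A, a * (w : G) = w * a}
        one_mem' := fun A _ a _ => by
          show a * (1 : G) = 1 * a
          rw [mul_one, one_mul]
        mul_mem' := fun {x y} hx hy A hA a ha => by
          show a * ((x : G) * y) = x * y * a
          rw [← mul_assoc, hx A hA a ha, mul_assoc, hy A hA a ha, mul_assoc]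
        inv_mem' := fun {x} hx A hA a ha => by
          show a * (x : G)⁻¹ = (x : G)⁻¹ * a
          have h1 : a * (x : G) = x * a := hx A hA a ha
          calc a * (x : G)⁻¹ = (x : G)⁻¹ * (x * a) * (x : G)⁻¹ := by group
            _ = (x : G)⁻¹ * (a * x) * (x : G)⁻¹ := by rw [h1]
            _ = _ := by group }
    -- `V' ∩ W₀ ≤ Z'`
    have hV0 : ∀ (l : Lam R Z) (v : W), (v : G) ∈ cj (ρ l) (V (κ l)) → v ∈ W₀ → (v : G) ∈ l.1 := by
      intro l v hv hv0
      obtain ⟨A, hA, h1⟩ := h.exR (hρ l) (κ l)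
      rw [← hκ l]
      exact h1 _ hv fun a ha => hv0 A hA a ha
    have hWl : ∀ (f : F) (l : Lam R Z) (m : W), m ∈ Wl l → f • m ∈ Wl (f • l) := by
      intro f l m hm
      have h1 : (m : G) ∈ WG R V Z l.1 := hm
      show (f : G) * m * (f : G)⁻¹ ∈ WG R V Z (cj (f : G) l.1)
      refine cj_WG_le (hFR f.2) (mem_cj.2 ?_)
      have e : (f : G)⁻¹ * ((f : G) * m * (f : G)⁻¹) * f = m := by group
      rwa [e]
    have hVl : ∀ (l : Lam R Z) (v : W), (v : G) ∈ cj (ρ l) (V (κ l)) → v ∈ Wl l :=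
      fun l v hv => le_WG (hρ l) (hκ l) hv
    have hW₀ : ∀ (f : F) (m : W), m ∈ W₀ → f • m ∈ W₀ := by
      intro f m hm A hA a ha
      have h1 := hm _ (h.AAc (f : G)⁻¹ (inv_mem (hFR f.2)) A hA) ((f : G)⁻¹ * a * f) (mem_cj.2 (by
        have : (f : G)⁻¹⁻¹ * ((f : G)⁻¹ * a * f) * (f : G)⁻¹ = a := by group
        rwa [this]))
      show a * ((f : G) * m * (f : G)⁻¹) = (f : G) * m * (f : G)⁻¹ * a
      calc a * ((f : G) * m * (f : G)⁻¹) = f * ((f : G)⁻¹ * a * f * m) * (f : G)⁻¹ := by group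
        _ = f * (m * ((f : G)⁻¹ * a * f)) * (f : G)⁻¹ := by rw [h1]
        _ = _ := by group
    have dir : ∀ (l : Lam R Z) (m : W), m ∈ Wl l → m ∈ W₀ ⊔ ⨆ (k : Lam R Z) (_ : k ≠ l), Wl k → m ∈ W₀ := by
      intro l m hm hm' A hA
      have hCA : m ∈ (centralizer (A : Set G)).subgroupOf W := by
        by_cases hc : ∀ r ∈ R, ∀ i, cj r (Z i) = l.1 → A ≤ centralizer (cj r (V i) : Set G)
        · have h1 : WG R V Z l.1 ≤ centralizer (A : Set G) := by
            refine sSup_le ?_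
            rintro X ⟨r, hr, i, e, rfl⟩
            exact le_centralizer_iff.1 (hc r hr i e)
          exact h1 hm
        · push Not at hc
          obtain ⟨r, hr, i, e, h1⟩ := hc
          refine (sup_le ?_ (iSup₂_le fun k hk => ?_) :
            W₀ ⊔ ⨆ (k : Lam R Z) (_ : k ≠ l), Wl k ≤ (centralizer (A : Set G)).subgroupOf W) hm'
          · intro w hw
            exact mem_centralizer_iff.2 fun a ha => hw A hA a ha
          · intro w hw
            have h2 : WG R V Z k.1 ≤ centralizer (A : Set G) := by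
              refine sSup_le ?_
              rintro X ⟨s, hs, j, e', rfl⟩
              refine le_centralizer_iff.1 ?_
              by_contra h3
              exact hk (Subtype.ext (by rw [← e', ← e]; exact (h.AAone A hA r hr i s hs j h1 h3).symm))
            exact h2 hw
      intro a ha
      exact mem_centralizer_iff.1 hCA a ha
    have hk : ∀ {k l : Lam R Z}, k ≠ l → Wl k ≤ W₀ ⊔ ⨆ (k : Lam R Z) (_ : k ≠ l), Wl k := fun {k l} hkl =>
      (le_iSup₂_of_le (f := fun (k : Lam R Z) (_ : k ≠ l) => Wl k) k hkl le_rfl).trans le_sup_right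
    -- quadratic
    have hq : ∀ (l : Lam R Z) (f₀ : F), f₀ • l ≠ l → ∀ (f g : F) (v : W), (v : G) ∈ cj (ρ l) (V (κ l)) →
        g • (f • v * v⁻¹) = f • v * v⁻¹ := by
      intro l f₀ hf₀ f g v hv
      have h1 : cj (f₀ : G) (cj (ρ l) (Z (κ l))) ≠ cj (ρ l) (Z (κ l)) := by
        rw [hκ l]
        intro e
        exact hf₀ (Subtype.ext e)
      have h2 := h.quad hFS hb hmin' (hρ l) (κ l) f₀.2 h1 f.2 g.2 hv
      apply Subtype.ext
      show (g : G) * (f * v * (f : G)⁻¹ * (v : G)⁻¹) * (g : G)⁻¹ = f * v * (f : G)⁻¹ * (v : G)⁻¹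
      rw [h2, mul_inv_cancel_right]
    have hq2 : ∀ (l : Lam R Z) (f₀ : F), f₀ • l ≠ l → ∀ (f g : F) (v : W), (v : G) ∈ cj (ρ l) (V (κ l)) →
        g • v * v⁻¹ = g • f • v * (f • v)⁻¹ := by
      intro l f₀ hf₀ f g v hv
      have h1 := hq l f₀ hf₀ f g v hv
      rw [smul_mul', smul_inv'] at h1
      have h2 : g • f • v = f • v * v⁻¹ * g • v := by rw [← h1, inv_mul_cancel_right]
      rw [h2, mul_comm (f • v * v⁻¹ * g • v) (f • v)⁻¹, mul_assoc (f • v), inv_mul_cancel_left, mul_comm]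
    -- commuting and squares on the lines
    have hcen : ∀ {x : G}, x ∈ centralizer (W : Set G) → ∀ {X : Subgroup G}, X ≤ W → cj x X = X := by
      intro x hx X hX
      refine cj_eq_of_mem_normalizer (centralizer_le_normalizer _ ?_)
      exact centralizer_le (SetLike.coe_subset_coe.2 hX) hx
    have hsq : ∀ (g : F) (l : Lam R Z), g • g • l = l := by
      intro g l
      apply Subtype.ext
      show cj (g : G) (cj (g : G) l.1) = l.1
      rw [cj_cj]
      have h1 := hb.2.2 (g : G) g.2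
      rw [pow_two] at h1
      exact hcen h1 (hlW l)
    have comm : ∀ (f g : F) (l : Lam R Z), f • g • l = g • f • l := by
      intro f g l
      apply Subtype.ext
      show cj (f : G) (cj (g : G) l.1) = cj (g : G) (cj (f : G) l.1)
      have h1 : ⁅(f : G)⁻¹, (g : G)⁻¹⁆ ∈ centralizer (W : Set G) :=
        hb.2.1 (commutator_mem_commutator (inv_mem f.2) (inv_mem g.2))
      have h2 := hcen h1 (hlW l)
      have e : cj (f : G) (cj (g : G) l.1) = cj (g : G) (cj (f : G) (cj ⁅(f : G)⁻¹, (g : G)⁻¹⁆ l.1)) := by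
        rw [cj_cj, cj_cj, cj_cj, commutatorElement_def]
        congr 1
        group
      rw [e, h2]
    -- representatives `e l`
    have hev : ∀ l : Lam R Z, ∃ v : W, (v : G) ∈ cj (ρ l) (V (κ l)) ∧ (v : G) ∉ l.1 := by
      intro l
      obtain ⟨v, hv, hv'⟩ := h.neR (r := ρ l) (κ l)
      exact ⟨⟨v, hVW l hv⟩, hv, by rw [← hκ l]; exact hv'⟩
    choose e he he' using hev
    have hne : ∀ l, e l ∉ W₀ := fun l hl => he' l (hV0 l _ (he l) hl)
    have two : ∀ (f g : F) (l : Lam R Z), f • l ≠ l → g • l ≠ l → f • l = g • l := by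
      intro f g l hf hg
      by_contra hfg
      apply hne l
      apply dir l _ (hVl l _ (he l))
      have h1 := hq2 l f hf f g (e l) (he l)
      have h2 : e l = f • e l * (g • f • e l)⁻¹ * g • e l := by
        have h3 : g • e l = g • f • e l * (f • e l)⁻¹ * e l := by rw [← h1, inv_mul_cancel_right]
        rw [h3, mul_comm (f • e l), mul_assoc (g • f • e l)⁻¹, mul_assoc (g • f • e l),
          mul_left_comm (f • e l), inv_mul_cancel_left, mul_inv_cancel_left]
      have h4 : g • f • l ≠ l := by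
        intro h5
        apply hfg
        have h6 : g • g • f • l = g • l := by rw [h5]
        rw [hsq] at h6
        exact h6
      rw [h2]
      exact mul_mem (mul_mem (hk hf (hWl f l _ (hVl l _ (he l))))
        (inv_mem (hk h4 (hWl g _ _ (hWl f l _ (hVl l _ (he l))))))) (hk hg (hWl g l _ (hVl l _ (he l))))
    -- the kernel
    let F₀ : Subgroup F :=
      { carrier := {f | ∀ l : Lam R Z, f • l = l}
        one_mem' := fun l => one_smul F l
        mul_mem' := fun {a b} ha hb l => by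
          show (a * b) • l = l
          rw [mul_smul, hb l, ha l]
        inv_mem' := fun {a} ha l => by
          show a⁻¹ • l = l
          rw [inv_smul_eq_iff, ha l] }
    have hF₀ : ∀ f : F, f ∈ F₀ ↔ ∀ l : Lam R Z, f • l = l := fun _ => Iff.rfl
    have hFK₀ : ∀ f ∈ F₀, (f : G) ∈ K := by
      intro f hf
      refine hR0 ⟨⟨hFR f.2, fun r hr i => ?_⟩, hFS f.2⟩
      exact congrArg Subtype.val (hf ⟨cj r (Z i), r, hr, i, rfl⟩)
    have fixV : ∀ l : Lam R Z, (∃ f : F, f • l ≠ l) → ∀ f ∈ F₀, ∀ v : W, (v : G) ∈ cj (ρ l) (V (κ l)) →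
        f • v = v := by
      rintro l ⟨f₁, hf₁⟩ f hf
      have hfK := hFK₀ f hf
      have hfl : cj (f : G) l.1 = l.1 := congrArg Subtype.val (hf l)
      have hn : cj (f : G) (cj (ρ l) (V (κ l))) = cj (ρ l) (V (κ l)) :=
        h.permR hfK (hρ l) (κ l) (by rw [hκ l]; exact hfl)
      have hc : ∀ v ∈ cj (ρ l) (V (κ l)), (f : G) * v * (f : G)⁻¹ * v⁻¹ ∈ cj (ρ l) (Z (κ l)) := by
        intro v hv
        let w : W := ⟨v, hVW l hv⟩
        have h1 : f • w * w⁻¹ ∈ W₀ := by
          apply dir l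
          · refine mul_mem ?_ (inv_mem (hVl l w hv))
            have := hWl f l w (hVl l w hv)
            rwa [hf l] at this
          · rw [hq2 l f₁ hf₁ f₁ f w hv]
            have h2 := hWl f₁ l w (hVl l w hv)
            have h3 := hWl f _ _ h2
            rw [hf] at h3
            exact mul_mem (hk hf₁ h3) (inv_mem (hk hf₁ h2))
        have h2 : ((f • w * w⁻¹ : W) : G) ∈ cj (ρ l) (V (κ l)) := by
          show (f : G) * v * (f : G)⁻¹ * v⁻¹ ∈ _
          refine mul_mem ?_ (inv_mem hv)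
          rw [← hn, mem_cj]
          have e : (f : G)⁻¹ * ((f : G) * v * (f : G)⁻¹) * f = v := by group
          rwa [e]
        have h3 := hV0 l _ h2 h1
        rw [hκ l]
        exact h3
      rcases h.rootR hfK (hρ l) (κ l) hc with h1 | h1
      · intro v hv
        apply Subtype.ext
        show (f : G) * v * (f : G)⁻¹ = v
        rw [h1 _ hv, mul_inv_cancel_right]
      · exfalso
        apply hf₁
        apply Subtype.ext
        show cj (f₁ : G) l.1 = l.1
        have hfix : ∀ z ∈ l.1, (f₁ : G) * z * (f₁ : G)⁻¹ = z := by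
          intro z hz
          rw [← hκ l] at hz
          obtain ⟨v, hv, e⟩ := h1 z hz
          have h2 := hq l f₁ hf₁ f f₁ ⟨v, hVW l hv⟩ hv
          have h3 : (f₁ : G) * ((f : G) * v * (f : G)⁻¹ * v⁻¹) * (f₁ : G)⁻¹ = (f : G) * v * (f : G)⁻¹ * v⁻¹ :=
            congrArg Subtype.val h2
          rwa [e] at h3
        apply cj_eq_of_mem_normalizer
        rw [mem_normalizer_iff]
        intro z
        constructor
        · intro hz
          rw [hfix z hz]; exact hz
        · intro hz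
          have h4 := hfix _ hz
          have e : (f₁ : G) * z * (f₁ : G)⁻¹ = z := mul_left_cancel (mul_right_cancel h4)
          rwa [e] at hz
    -- a moved line
    obtain ⟨l₁, f₁, hl₁⟩ : ∃ (l : Lam R Z) (f : F), f • l ≠ l := by
      by_contra hc
      push Not at hc
      apply hFK
      intro f hf
      exact hFK₀ ⟨f, hf⟩ fun l => hc l ⟨f, hf⟩
    obtain ⟨n, hn, f₂, hn'⟩ : ∃ n : W, (n : G) ∈ l₁.1 ∧ ∃ f : F, f • n ≠ n := by
      by_contra hc
      push Not at hc
      apply hl₁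
      apply Subtype.ext
      show cj (f₁ : G) l₁.1 = l₁.1
      have hfix : ∀ z ∈ l₁.1, (f₁ : G) * z * (f₁ : G)⁻¹ = z := fun z hz =>
        congrArg Subtype.val (hc ⟨z, hlW l₁ hz⟩ hz f₁)
      apply cj_eq_of_mem_normalizer
      rw [mem_normalizer_iff]
      intro z
      constructor
      · intro hz
        rw [hfix z hz]; exact hz
      · intro hz
        have h4 := hfix _ hz
        have e : (f₁ : G) * z * (f₁ : G)⁻¹ = z := mul_left_cancel (mul_right_cancel h4)
        rwa [e] at hz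
    have hnZ : (n : G) ∈ cj (ρ l₁) (Z (κ l₁)) := by rw [hκ l₁]; exact hn
    have hcount := PermCount.count Wl W₀ hWl hW₀ dir two comm F₀ hF₀ e (fun l => hVl l _ (he l)) hne
      (fun l hl f hf => fixV l hl f hf _ (he l)) (n := n)
      (fun A hA a ha => h.zR (hρ l₁) hA (κ l₁) ha hnZ)
      (fun f hf => fixV l₁ ⟨f₁, hl₁⟩ f hf n (h.cjZ_le _ _ hnZ)) ⟨f₂, hn'⟩
    -- comparison with bestness
    have hfx : ∀ B : Subgroup F, Nat.card (PermCount.fx W B) =
        Nat.card ↥(W ⊓ centralizer ((B.map F.subtype : Subgroup G) : Set G)) := by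
      intro B
      refine Nat.card_congr ⟨fun w => ⟨w.1.1, w.1.2, ?_⟩, fun w => ⟨⟨w.1, w.2.1⟩, ?_⟩, fun w => rfl, fun w => rfl⟩
      · refine mem_centralizer_iff.2 ?_
        rintro _ ⟨b, hb', rfl⟩
        have h1 : (b : G) * w.1.1 * (b : G)⁻¹ = w.1.1 := congrArg Subtype.val (w.2 b hb')
        show (b : G) * w.1.1 = w.1.1 * b
        calc (b : G) * w.1.1 = (b : G) * w.1.1 * (b : G)⁻¹ * b := by group
          _ = _ := by rw [h1]
      · intro b hb'
        apply Subtype.ext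
        show (b : G) * w.1 * (b : G)⁻¹ = w.1
        have h1 := mem_centralizer_iff.1 w.2.2 (b : G) ⟨b, hb', rfl⟩
        rw [h1, mul_inv_cancel_right]
    have hcF₀ : Nat.card ↥(F₀.map F.subtype) = Nat.card F₀ :=
      Nat.card_congr (F₀.equivMapOfInjective F.subtype F.subtype_injective).symm.toEquiv
    have h1 := hb.1 (F₀.map F.subtype) (by rintro _ ⟨f, _, rfl⟩; exact f.2)
    rw [hcF₀, ← hfx F₀] at h1
    have h2 : (⊤ : Subgroup F).map F.subtype = F := by
      rw [← MonoidHom.range_eq_map, Subgroup.range_subtype]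
    have h3 := hfx ⊤
    rw [h2] at h3
    rw [← h3] at h1
    have h4 : 0 < Nat.card F * Nat.card (PermCount.fx W (⊤ : Subgroup F)) := Nat.mul_pos Nat.card_pos Nat.card_pos
    omega

end PA

end Cfsg.Agent.Omega.NOThreeL.RWide

end

section


/-!
# Thompson-Timmesfeld replacement inside an offender

* `Offd.exists_best` : an elementary abelian offender contains a best offender moving the module;
* `Offd.exists_quad` : ... and a quadratic offender.
-/

set_option autoImplicit false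
set_option linter.unusedSectionVars false

namespace Cfsg.Agent.Omega.NO3S.EThree

open Subgroup Cfsg
open scoped commutatorElement

universe u

variable {G : Type u} [Group G] [Finite G] {U A : Subgroup G}

/-- `|A : C_A(U)| |C_A(U)| = |A|` -/
theorem relIndex_mul_card_cen (A U : Subgroup G) :
    (centralizer (U : Set G)).relIndex A * Nat.card ↥(A ⊓ centralizer (U : Set G)) = Nat.card A := by
  rw [← inf_relIndex_left, mul_comm, Subgroup.relIndex,
    ← Nat.card_congr (Subgroup.subgroupOfEquivOfLe (inf_le_left : A ⊓ centralizer (U : Set G) ≤ A)).toEquiv]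
  exact Subgroup.card_mul_index _

/-- the offender inequality in orders -/
theorem offd_le_iff {B : Subgroup G} :
    (centralizer (B : Set G)).relIndex U ≤ (centralizer (U : Set G)).relIndex B ↔
      Nat.card ↥(B ⊓ centralizer (U : Set G)) * Nat.card U ≤ Nat.card B * Nat.card ↥(U ⊓ centralizer (B : Set G)) := by
  have h1 := relIndex_mul_card_cen B U
  have h2 := relIndex_mul_card_cen U B
  have p1 : 0 < Nat.card ↥(B ⊓ centralizer (U : Set G)) := Nat.card_pos
  have p2 : 0 < Nat.card ↥(U ⊓ centralizer (B : Set G)) := Nat.card_pos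
  set b := Nat.card ↥(B ⊓ centralizer (U : Set G))
  set c := Nat.card ↥(U ⊓ centralizer (B : Set G))
  rw [← h1, ← h2]
  constructor
  · intro h
    calc b * ((centralizer (B : Set G)).relIndex U * c) = (centralizer (B : Set G)).relIndex U * (b * c) := by ring
      _ ≤ (centralizer (U : Set G)).relIndex B * (b * c) := Nat.mul_le_mul_right _ h
      _ = _ := by ring
  · intro h
    refine Nat.le_of_mul_le_mul_right ?_ (Nat.mul_pos p1 p2)
    calc (centralizer (B : Set G)).relIndex U * (b * c) = b * ((centralizer (B : Set G)).relIndex U * c) := by ring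
      _ ≤ _ := h
      _ = _ := by ring

/-- a best offender satisfies the offender inequality -/
theorem le_of_best {B : Subgroup G} (hb : IsBestOffenderOn 2 U B) :
    (centralizer (B : Set G)).relIndex U ≤ (centralizer (U : Set G)).relIndex B := by
  rw [offd_le_iff]
  have h1 := hb.1 (B ⊓ centralizer (U : Set G)) inf_le_left
  have h2 : U ⊓ centralizer ((B ⊓ centralizer (U : Set G) : Subgroup G) : Set G) = U :=
    inf_eq_left.2 (le_centralizer_iff.1 inf_le_right)
  rwa [h2] at h1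

/-- An elementary abelian offender contains a best offender moving the module. -/
theorem Offd.exists_best (hA : IsElementaryAbelian 2 A) (h : Offd U A) :
    ∃ B : Subgroup G, B ≤ A ∧ ¬ B ≤ centralizer (U : Set G) ∧ IsBestOffenderOn 2 U B := by
  let f : Subgroup G → ℕ := fun B => Nat.card B * Nat.card ↥(U ⊓ centralizer (B : Set G))
  obtain ⟨B, hB, hmax⟩ := Set.Finite.exists_maximalFor f {B : Subgroup G | B ≤ A} (Set.toFinite _) ⟨A, le_refl A⟩
  have hmax' : ∀ C : Subgroup G, C ≤ A → f C ≤ f B := by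
    intro C hC
    rcases le_total (f C) (f B) with h1 | h1
    · exact h1
    · exact hmax hC h1
  have hbest : ∀ C : Subgroup G, C ≤ A → f B ≤ f C → IsBestOffenderOn 2 U C := by
    intro C hC hf
    refine ⟨fun D hD => (hmax' D (hD.trans hC)).trans hf, ?_, ?_⟩
    · have : ⁅C, C⁆ = ⊥ := by
        rw [commutator_eq_bot_iff_le_centralizer]
        intro x hx
        rw [mem_centralizer_iff]
        intro y hy
        exact congrArg Subtype.val (hA.1.1.1 (⟨y, hC hy⟩ : A) (⟨x, hC hx⟩ : A))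
      rw [this]
      exact bot_le
    · intro a ha
      rw [hA.2 a (hC ha)]
      exact one_mem _
  by_cases hc : B ≤ centralizer (U : Set G)
  · refine ⟨A, le_rfl, h.mov, hbest A le_rfl ?_⟩
    have h1 := offd_le_iff.1 h.le
    have h2 : Nat.card B ≤ Nat.card ↥(A ⊓ centralizer (U : Set G)) :=
      Nat.card_le_card_of_injective (inclusion (le_inf hB hc)) (inclusion_injective _)
    have h3 : Nat.card ↥(U ⊓ centralizer (B : Set G)) ≤ Nat.card U :=
      Nat.card_le_card_of_injective (inclusion inf_le_left) (inclusion_injective _)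
    exact (Nat.mul_le_mul h2 h3).trans h1
  · exact ⟨B, hB, hc, hbest B hB le_rfl⟩

/-- **Thompson-Timmesfeld: an elementary abelian offender contains a quadratic one.** -/
theorem Offd.exists_quad (hU : IsElementaryAbelian 2 U) (hA : IsElementaryAbelian 2 A) (h : Offd U A) :
    ∃ B : Subgroup G, B ≤ A ∧ Offd U B ∧ ∀ u ∈ U, ∀ a ∈ B, ∀ b ∈ B, b * ⁅u, a⁆ = ⁅u, a⁆ * b := by
  obtain ⟨B, hBA, hne, hb⟩ := h.exists_best hA
  have hn := hBA.trans h.norm
  obtain ⟨h1, h2⟩ := SN2.BA.bo_quad hU hn hb le_rfl hn fun hc => hne (le_centralizer_iff.1 hc)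
  refine ⟨_, inf_le_left.trans hBA, ⟨inf_le_left.trans hn, fun hc => h2 (le_centralizer_iff.1 hc), le_of_best h1⟩, ?_⟩
  intro u hu a ha b hb'
  exact (mem_centralizer_iff.1 hb'.2 _ (commutator_mem_commutator hu ha.1)).symm

end Cfsg.Agent.Omega.NO3S.EThree

end

section


/-!
# Thompson–Timmesfeld replacement (form for CLAIM 1 of THEOREM V4, #25093)

An elementary abelian offender `A` on an elementary abelian `U` which moves `U` contains a quadratic offender
`B` which moves `U`.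
-/

set_option autoImplicit false
set_option linter.unusedSectionVars false

open Subgroup Cfsg
open scoped commutatorElement

namespace Cfsg.Agent.Omega.NO3S.V4.Timm

variable {G : Type*} [Group G] [Finite G]

/-- `|B| |C_U(B)|` -/
noncomputable def ff (U B : Subgroup G) : ℕ :=
  Nat.card B * Nat.card ↥(U ⊓ centralizer (B : Set G))

theorem exists_best {U A : Subgroup G} :
    ∃ B ≤ A, ff U A ≤ ff U B ∧ (∀ C ≤ A, ff U C ≤ ff U B) ∧ (ff U B = ff U A → B = A) := by
  classical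
  by_cases h : ∀ C ≤ A, ff U C ≤ ff U A
  · exact ⟨A, le_rfl, le_rfl, h, fun _ => rfl⟩
  · push Not at h
    obtain ⟨C, hC, hlt⟩ := h
    obtain ⟨B, hB, hmax⟩ := Set.exists_max_image (Set.Iic A) (fun B => ff U B) (Set.toFinite _)
      ⟨A, Set.mem_Iic.2 le_rfl⟩
    simp only [Set.mem_Iic] at hB hmax
    refine ⟨B, hB, hmax A le_rfl, fun D hD => hmax D hD, fun he => ?_⟩
    exact absurd (he ▸ hmax C hC) (not_le.2 hlt)

theorem inf_cent_of_le {U B : Subgroup G} (h : B ≤ centralizer (U : Set G)) :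
    U ⊓ centralizer (B : Set G) = U :=
  inf_eq_left.2 (le_centralizer_iff.1 h)

/-- Thompson–Timmesfeld replacement. -/
theorem timm {U A : Subgroup G} (hU : IsElementaryAbelian 2 U) (hA : IsElementaryAbelian 2 A)
    (hN : A ≤ normalizer (U : Set G)) (hmv : ¬ A ≤ centralizer (U : Set G))
    (hof : Nat.card U * Nat.card ↥(A ⊓ centralizer (U : Set G)) ≤
      Nat.card A * Nat.card ↥(U ⊓ centralizer (A : Set G))) :
    ∃ B ≤ A, ¬ B ≤ centralizer (U : Set G) ∧
      Nat.card U * Nat.card ↥(B ⊓ centralizer (U : Set G)) ≤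
        Nat.card B * Nat.card ↥(U ⊓ centralizer (B : Set G)) ∧
      ⁅⁅U, B⁆, B⁆ = ⊥ := by
  have : Fact (Nat.Prime 2) := ⟨Nat.prime_two⟩
  obtain ⟨B, hBA, hAB, hmax, heq⟩ := exists_best (U := U) (A := A)
  -- `B` moves `U`
  have hmvB : ¬ B ≤ centralizer (U : Set G) := by
    intro hc
    have h1 : ff U B = Nat.card U * Nat.card B := by
      rw [ff, inf_cent_of_le hc, mul_comm]
    have h2 : Nat.card B ≤ Nat.card ↥(A ⊓ centralizer (U : Set G)) :=
      Nat.card_mono (Set.toFinite _) (le_inf hBA hc)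
    have h3 : ff U B ≤ ff U A := by
      rw [h1]
      exact (Nat.mul_le_mul_left _ h2).trans hof
    exact hmv (heq (le_antisymm h3 hAB) ▸ hc)
  have hcomm : ∀ x ∈ A, ∀ y ∈ A, x * y = y * x := by
    intro x hx y hy
    have := hA.1
    exact congrArg Subtype.val (IsMulCommutative.is_comm.comm (⟨x, hx⟩ : A) ⟨y, hy⟩)
  have hBO : IsBestOffenderOn 2 U B := by
    refine ⟨fun C hC => hmax C (hC.trans hBA), ?_, ?_⟩
    · rw [Subgroup.commutator_le]
      intro x hx y hy
      have : ⁅x, y⁆ = 1 := commutatorElement_eq_one_iff_mul_comm.2 (hcomm x (hBA hx) y (hBA hy))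
      rw [this]; exact one_mem _
    · intro a ha
      rw [hA.2 a (hBA ha)]; exact one_mem _
  obtain ⟨h1, -, h3⟩ := Cfsg.Agent.S0599.result U B hU (hBA.trans hN) hBO U le_rfl
  set E : Subgroup G := B ⊓ centralizer ((⁅U, B⁆ : Subgroup G) : Set G) with hE
  have hEB : E ≤ B := inf_le_left
  have hne : ⁅U, B⁆ ≠ ⊥ := fun h => hmvB (by
    rw [Subgroup.commutator_comm, Subgroup.commutator_eq_bot_iff_le_centralizer] at h
    exact h)
  refine ⟨E, hEB.trans hBA, fun hc => h3 hne ?_, ?_, ?_⟩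
  · rw [Subgroup.commutator_comm, Subgroup.commutator_eq_bot_iff_le_centralizer]
    exact hc
  · have h4 := h1.1 (E ⊓ centralizer (U : Set G)) inf_le_left
    rw [inf_cent_of_le (B := E ⊓ centralizer (U : Set G)) inf_le_right, mul_comm] at h4
    exact h4
  · rw [Subgroup.commutator_eq_bot_iff_le_centralizer]
    have h5 : E ≤ centralizer ((⁅U, B⁆ : Subgroup G) : Set G) := inf_le_right
    exact (Subgroup.commutator_mono le_rfl hEB).trans (le_centralizer_iff.1 h5)

end Cfsg.Agent.Omega.NO3S.V4.Timm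

end
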